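import Groth.Agent.EtModWLib.Noeth.Main
import Groth.Agent.EtModWLib.Linear
import Groth.Agent.ARLib.AdicCat
import Groth.Agent.ARLib.StrictChains

/-! adic systems of constructible sheaves of modules: kernels, cokernels, chains -/

universe u

open CategoryTheory CategoryTheory.Limits AlgebraicGeometry Opposite

namespace Groth.Agent.EtModWLib

set_option backward.isDefEq.respectTransparency.types false

variable {Λ : Type (u + 1)} [CommRing Λ] [IsNoetherianRing Λ] {X : Scheme.{u}} {I : Ideal Λ}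

/-- being adic up to translation, by constructible sheaves -/
def IsARAdicC (I : Ideal Λ) (F : ARSys.PS (EtModW.Mod Λ X)) : Prop :=
  ARSys.TermKilled I F ∧ ∃ (Y : ARSys.PS (EtModW.Mod Λ X)) (v : Y ⟶ F), ARSys.IsAdic I Y ∧
    (∀ n : ℕ, EtModW.IsConstructible Λ (Y.obj (op n))) ∧ ARSys.IsARIso v

omit [IsNoetherianRing Λ] in
theorem IsARAdicC.isARAdic {F : ARSys.PS (EtModW.Mod Λ X)} (h : IsARAdicC I F) : ARSys.IsARAdic I F := by
  obtain ⟨hk, Y, v, hY, -, hv⟩ := h
  exact ⟨hk, Y, v, hY, hv⟩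

/-- for constructible terms the adic model automatically has constructible terms -/
theorem isARAdicC_of [IsLocallyNoetherian X] {F : ARSys.PS (EtModW.Mod Λ X)} (h : ARSys.IsARAdic I F)
    (hc : ∀ n : ℕ, EtModW.IsConstructible Λ (F.obj (op n))) : IsARAdicC I F := by
  obtain ⟨hk, Y, v, hY, hv⟩ := h
  obtain ⟨r, ⟨inv⟩⟩ := ARLib.exists_inv hv
  refine ⟨hk, Y, v, hY, fun n => ?_, hv⟩
  have := ARLib.epi_ψ_of_strict (ARLib.isStrict_of_isAdic hY) inv n
  exact isConstructible_of_epi_noeth (hc (n + r)) (inv.ψ n (n + r) le_rfl)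

variable [IsLocallyNoetherian X] [CompactSpace X]

theorem isARAdicNoeth_of {F : ARSys.PS (EtModW.Mod Λ X)} (hF : ARSys.IsAdic I F)
    (hc : ∀ n : ℕ, EtModW.IsConstructible Λ (F.obj (op n))) : ARSys.IsARAdicNoeth I F :=
  ⟨ARLib.isARAdic_of_isAdic hF, fun n => isNoetherianObject_of_isConstructible (hc n)⟩

theorem isARAdicC_kernel_cokernel {F G : ARSys.PS (EtModW.Mod Λ X)} (hF : ARSys.IsAdic I F) (hG : ARSys.IsAdic I G)
    (hFc : ∀ n : ℕ, EtModW.IsConstructible Λ (F.obj (op n))) (hGc : ∀ n : ℕ, EtModW.IsConstructible Λ (G.obj (op n)))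
    (w : F ⟶ G) : IsARAdicC I (kernel w) ∧ IsARAdicC I (cokernel w) := by
  obtain ⟨hk, hq⟩ := ARLib.isARAdicNoeth_kernel_cokernel w (isARAdicNoeth_of hF hFc) (isARAdicNoeth_of hG hGc)
  refine ⟨isARAdicC_of hk.1 fun n => ?_, isARAdicC_of hq.1 fun n => ?_⟩
  · exact isConstructible_of_mono_noeth (hFc n) ((kernel.ι w).app (op n))
  · exact isConstructible_of_epi_noeth (hGc n) ((cokernel.π w).app (op n))

omit [IsNoetherianRing Λ] [IsLocallyNoetherian X] [CompactSpace X] in
/-- maps from strict systems land in the image of any isomorphism up to translation -/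
theorem comp_cokernel_eq_zero {T Y Z : ARSys.PS (EtModW.Mod Λ X)} (hT : ARSys.IsStrict T) (a : T ⟶ Z) (v : Y ⟶ Z)
    (hv : ARSys.IsARIso v) : a ≫ cokernel.π v = 0 := by
  obtain ⟨r, ⟨inv⟩⟩ := ARLib.exists_inv hv
  refine ARLib.hom_ext fun n => ?_
  have := hT n (n + r) (Nat.le_add_right n r)
  have h0 : v.app (op n) ≫ (cokernel.π v).app (op n) = 0 := by
    rw [← NatTrans.comp_app, cokernel.condition]
    rfl
  refine (cancel_epi (ARSys.tr T (Nat.le_add_right n r))).1 ?_
  rw [NatTrans.comp_app, ← Category.assoc, ARLib.tr_naturality, Category.assoc, ← inv.ψ_u n (n + r) le_rfl,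
    Category.assoc, h0, comp_zero, comp_zero]
  exact comp_zero.symm

/-- chains of subsystems adic up to translation in an adic system are stationary up to translation -/
theorem chain_eventually_arIso {F : ARSys.PS (EtModW.Mod Λ X)} (hF : ARSys.IsAdic I F)
    (hFc : ∀ n : ℕ, EtModW.IsConstructible Λ (F.obj (op n))) (Z : ℕ →o Subobject F)
    (hZ : ∀ k : ℕ, IsARAdicC I (Subobject.underlying.obj (Z k) : ARSys.PS (EtModW.Mod Λ X))) :
    ∃ k₀ : ℕ, ∀ k : ℕ, k₀ ≤ k →
      ARSys.IsARIso (Subobject.ofLE (Z k) (Z (k + 1)) (Z.monotone (Nat.le_succ k))) := by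
  choose hk Y v hY hYc hv using hZ
  -- the images of the adic models form a chain of strict subsystems
  let M : ℕ → Subobject F := fun k => Subobject.mk (Abelian.image.ι (v k) ≫ (Z k).arrow)
  have hle : ∀ i j, i ≤ j → M i ≤ M j := fun i j h => by
    have h1 : Abelian.image.ι (v i) ≫ Subobject.ofLE _ _ (Z.monotone h) ≫ cokernel.π (v j) = 0 :=
      comp_cokernel_eq_zero
        (ARLib.isStrict_of_epi (Abelian.factorThruImage (v i)) (ARLib.isStrict_of_isAdic (hY i)))
        (Abelian.image.ι (v i) ≫ Subobject.ofLE _ _ (Z.monotone h)) (v j) (hv j) |> fun q => by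
          rwa [Category.assoc] at q
    refine Subobject.mk_le_mk_of_comm (kernel.lift (cokernel.π (v j))
      (Abelian.image.ι (v i) ≫ Subobject.ofLE _ _ (Z.monotone h)) (by rw [Category.assoc, h1])) ?_
    exact (Category.assoc _ _ _).symm.trans ((congrArg (· ≫ (Z j).arrow) (kernel.lift_ι _ _ _)).trans
      ((Category.assoc _ _ _).trans (congrArg (Abelian.image.ι (v i) ≫ ·) (Subobject.ofLE_arrow _))))
  obtain ⟨k₀, hk₀⟩ := ARLib.strict_chain_stabilizes (J := I)
    ⟨hF, fun n => isNoetherianObject_of_isConstructible (hFc n)⟩ ⟨M, fun i j h => hle i j h⟩ fun k => by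
      let ei := Subobject.underlyingIso (Abelian.image.ι (v k) ≫ (Z k).arrow)
      exact ARLib.isStrict_of_epi (Abelian.factorThruImage (v k) ≫ ei.inv) (ARLib.isStrict_of_isAdic (hY k))
  have hm : ∀ k, ARSys.IsARIso (Abelian.image.ι (v k)) := fun k => by
    refine ARLib.isARIso_of_precomp (u := Abelian.factorThruImage (v k)) ⟨?_, ?_⟩
      ((Abelian.image.fac (v k)).symm ▸ hv k)
    · refine (ARLib.isARNull_kernel_iff _).2 ?_
      obtain ⟨r, hr⟩ := (ARLib.isARNull_kernel_iff _).1 (hv k).1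
      refine ⟨r, fun n m h hm T x hx => hr n m h hm T x ?_⟩
      rw [← Abelian.image.fac (v k), NatTrans.comp_app, reassoc_of% hx, zero_comp]
    · refine (ARLib.isARNull_iff _).2 ⟨0, fun n m h _ => ?_⟩
      exact (((evaluation ℕᵒᵖ _).obj (op m)).map_isZero
        (Limits.isZero_cokernel_of_epi (Abelian.factorThruImage (v k)))).eq_of_src _ _
  refine ⟨k₀, fun k hk => ?_⟩
  have he : M k = M (k + 1) := (hk₀ k hk).trans (hk₀ (k + 1) (hk.trans (Nat.le_succ k))).symm
  let i := Subobject.isoOfMkEqMk _ _ he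
  have hi : i.hom ≫ Abelian.image.ι (v (k + 1)) =
      Abelian.image.ι (v k) ≫ Subobject.ofLE (Z k) (Z (k + 1)) (Z.monotone (Nat.le_succ k)) := by
    refine (cancel_mono (Z (k + 1)).arrow).1 ?_
    rw [Category.assoc, Category.assoc, Subobject.ofLE_arrow]
    exact Subobject.ofMkLEMk_comp _
  refine ARLib.isARIso_of_precomp (hm k) (hi ▸ ARLib.isARIso_comp ?_ (hm (k + 1)))
  exact ⟨(ARLib.isARNull_iff _).2 ⟨0, fun n m h _ => (((evaluation ℕᵒᵖ _).obj (op m)).map_isZero
      (Limits.isZero_kernel_of_mono i.hom)).eq_of_src _ _⟩,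
    (ARLib.isARNull_iff _).2 ⟨0, fun n m h _ => (((evaluation ℕᵒᵖ _).obj (op m)).map_isZero
      (Limits.isZero_cokernel_of_epi i.hom)).eq_of_src _ _⟩⟩

end Groth.Agent.EtModWLib
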