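import Groth.Agent.ARLib.Invariance
import Groth.Agent.EtModWLib.MapSystems

/-! being adic up to translation is detected by jointly faithful exact linear functors -/

universe w w' v v' u u'

open CategoryTheory CategoryTheory.Limits Opposite ARSys

namespace Groth.Agent.EtModWLib

set_option backward.isDefEq.respectTransparency.types false

variable {C : Type u} [Category.{v} C] [Abelian C] {A : Type w} [CommRing A] [Linear A C] {J : Ideal A}

/-- images reached from translation by `r` are reached from everywhere -/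
def Stab (X : PS C) (r : ℕ) : Prop :=
  ∀ (n a m : ℕ) (_ : n + r ≤ a) (_ : a ≤ m) (hna : n ≤ a) (hnm : n ≤ m),
    tr X hna ≫ cokernel.π (tr X hnm) = 0

theorem exists_stab {X : PS C} (h : IsMLAR X) : ∃ r, Stab X r := by
  obtain ⟨r, hr⟩ := ARLib.exists_of_isMLAR h
  refine ⟨r, fun n a m h1 h2 hna hnm => ?_⟩
  obtain ⟨T, π, hπ, y, hy⟩ := hr n a m h1 h2 hna hnm (𝟙 _)
  rw [Category.id_comp] at hy
  rw [← cancel_epi π, reassoc_of% hy, cokernel.condition, comp_zero, comp_zero]

theorem isMLAR_of_stab {X : PS C} {r : ℕ} (h : Stab X r) : IsMLAR X := by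
  refine (ARLib.isMLAR_iff X).2 ⟨r, fun n a m h1 h2 => ?_⟩
  have := (ShortComplex.mk (tr X (show n ≤ m by omega)) _ (cokernel.condition _)).exact_of_g_is_cokernel
    (cokernelIsCokernel (tr X (show n ≤ m by omega)))
  exact this.exact_up_to_refinements (tr X (show n ≤ a by omega)) (h n a m h1 h2 _ _)

omit [Linear A C] in
theorem Stab.mono {X : PS C} {r r' : ℕ} (h : Stab X r) (hr : r ≤ r') : Stab X r' :=
  fun n a m h1 h2 hna hnm => h n a m (by omega) h2 hna hnm

theorem factors_mono {X : PS C} {r r' : ℕ} (h : ARLib.Factors J X r) (hr : r ≤ r') : ARLib.Factors J X r' :=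
  fun k m a hkm ha hma hka T φ hφ => by
    obtain ⟨θ, hθ⟩ := h k m a hkm (by omega) hma (by omega) T φ hφ
    exact ⟨tr X (show k + r ≤ k + r' by omega) ≫ θ, by rw [hθ, ARLib.tr_tr_assoc]⟩

omit [Linear A C] in
theorem Stab.of_iso {X Y : PS C} (e : X ≅ Y) {r : ℕ} (h : Stab X r) : Stab Y r := fun n a m h1 h2 hna hnm => by
  obtain ⟨ψ, hψ⟩ : ∃ ψ, cokernel.π (tr X hnm) ≫ ψ = e.hom.app (op n) ≫ cokernel.π (tr Y hnm) :=
    ⟨cokernel.desc _ (e.hom.app (op n) ≫ cokernel.π (tr Y hnm))
      (by rw [ARLib.tr_naturality_assoc, cokernel.condition, comp_zero]), cokernel.π_desc _ _ _⟩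
  have h3 := congrArg (fun q => e.inv.app (op a) ≫ q ≫ ψ) (h n a m h1 h2 hna hnm)
  simp only [Category.assoc, hψ, zero_comp, comp_zero] at h3
  rw [← ARLib.tr_naturality_assoc, Iso.inv_hom_id_app_assoc] at h3
  exact h3

theorem factors_of_iso {X Y : PS C} (e : X ≅ Y) {r : ℕ} (h : ARLib.Factors J X r) : ARLib.Factors J Y r :=
  fun k m a hkm ha hma hka T φ hφ => by
    obtain ⟨θ, hθ⟩ := h k m a hkm ha hma hka T (e.hom.app (op m) ≫ φ) (ARLib.killed_comp_left hφ _)
    refine ⟨e.inv.app (op (k + r)) ≫ θ, ?_⟩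
    have := congrArg (e.inv.app (op a) ≫ ·) hθ
    simp only [← ARLib.tr_naturality_assoc, Iso.inv_hom_id_app_assoc] at this
    exact this

/-- adic up to translation is detected by a jointly faithful family with one translation bound -/
theorem isARAdic_of_jointly {κ : Sort w'} {D : κ → Type u'} [∀ i, Category.{v'} (D i)] [∀ i, Abelian (D i)]
    [∀ i, Linear A (D i)] (L : ∀ i, C ⥤ D i) [∀ i, (L i).Additive] [∀ i, (L i).Linear A]
    [∀ i, PreservesFiniteLimits (L i)] [∀ i, PreservesFiniteColimits (L i)]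
    (hjf : ∀ {P Q : C} (f : P ⟶ Q), (∀ i, (L i).map f = 0) → f = 0)
    (hJ : J.FG ∨ HasCoproducts.{w} C) {X : PS C} (kX : TermKilled J X) (r : ℕ)
    (hs : ∀ i, Stab (X ⋙ L i) r) (hf : ∀ i, ARLib.Factors J (X ⋙ L i) r) : IsARAdic J X := by
  have hS : Stab X r := fun n a m h1 h2 hna hnm => hjf _ fun i => by
    obtain ⟨ψ, hψ⟩ : ∃ ψ, cokernel.π ((L i).map (tr X hnm)) ≫ ψ = (L i).map (cokernel.π (tr X hnm)) :=
      ⟨cokernel.desc _ ((L i).map (cokernel.π (tr X hnm)))
        (by rw [← Functor.map_comp, cokernel.condition, Functor.map_zero]), cokernel.π_desc _ _ _⟩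
    rw [Functor.map_comp, ← hψ, ← Category.assoc]
    exact (congrArg (· ≫ ψ) (hs i n a m h1 h2 hna hnm)).trans zero_comp
  refine ARLib.isARAdic_of_factors hJ kX (isMLAR_of_stab hS) (r := r + r) fun k m a hkm ha hma hka T φ hφ => ?_
  have hka' : k + r ≤ a := by omega
  -- the kernel of the map to degree `k + r` dies
  have hker : kernel.ι (tr X hka') ≫ tr X hma ≫ φ = 0 := hjf _ fun i => by
    obtain ⟨θ, hθ⟩ := hf i k m a hkm (by omega) hma hka' _ ((L i).map φ) fun b hb => by
      rw [← Functor.map_smul, hφ b hb, Functor.map_zero]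
    simp only [Functor.map_comp]
    refine (congrArg ((L i).map (kernel.ι (tr X hka')) ≫ ·) hθ).trans ?_
    rw [← Category.assoc]
    refine (congrArg (· ≫ θ) ?_).trans zero_comp
    exact ((L i).map_comp _ _).symm.trans ((congrArg (L i).map (kernel.condition _)).trans ((L i).map_zero _ _))
  let e := Abelian.factorThruImage (tr X hka')
  have he : e ≫ Abelian.image.ι (tr X hka') = tr X hka' := Abelian.image.fac _
  obtain ⟨l, hl⟩ : ∃ l, l ≫ Abelian.image.ι (tr X hka') = tr X (show k + r ≤ k + (r + r) by omega) :=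
    ⟨kernel.lift _ (tr X (show k + r ≤ k + (r + r) by omega)) (hS (k + r) (k + (r + r)) a (by omega) hka _ hka'),
      kernel.lift_ι _ _ _⟩
  have hk : kernel.ι e ≫ tr X hma ≫ φ = 0 := by
    have h0 : kernel.ι e ≫ tr X hka' = 0 := (congrArg (_ ≫ ·) he.symm).trans (by rw [kernel.condition_assoc, zero_comp])
    rw [← kernel.lift_ι (tr X hka') (kernel.ι e) h0, Category.assoc, hker, comp_zero]
  refine ⟨l ≫ Abelian.epiDesc e (tr X hma ≫ φ) hk, ?_⟩
  have : tr X hka ≫ l = e := by
    rw [← cancel_mono (Abelian.image.ι (tr X hka')), Category.assoc, hl, he, ARLib.tr_tr]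
  rw [reassoc_of% this, Abelian.comp_epiDesc]

/-- one translation bound for a system adic up to translation -/
theorem exists_bound {X : PS C} (h : IsARAdic J X) : ∃ r, Stab X r ∧ ARLib.Factors J X r := by
  obtain ⟨a, ha⟩ := exists_stab (ARLib.isMLAR_of_isARAdic h)
  obtain ⟨b, hb⟩ := ARLib.factors_of_isARAdic h
  exact ⟨max a b, ha.mono (le_max_left a b), factors_mono hb (le_max_right a b)⟩

end Groth.Agent.EtModWLib
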