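import Groth.Agent.EtModWLib.Noeth.Systems
import Groth.Agent.EtModWLib.Noeth.Detect
import Groth.Agent.EtModWLib.StalkFinite
import Groth.Agent.EtFound.Cospec

/-! adic systems up to translation: locality, stalks, specialisation -/

universe u

open CategoryTheory CategoryTheory.Limits AlgebraicGeometry Opposite

namespace Groth.Agent.EtModWLib

set_option backward.isDefEq.respectTransparency.types false

variable {Λ : Type (u + 1)} [CommRing Λ] [IsNoetherianRing Λ] {X : Scheme.{u}} {I : Ideal Λ}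

omit [IsNoetherianRing Λ] in
/-- inverse images of systems adic up to translation, by constructible sheaves -/
theorem IsARAdicC.pull {F : ARSys.PS (EtModW.Mod Λ X)} (h : IsARAdicC I F) {U : Scheme.{u}} (g : U ⟶ X) :
    IsARAdicC I (F ⋙ EtModW.pull Λ g) := by
  obtain ⟨hk, Y, v, hY, hYc, hv⟩ := h
  exact ⟨termKilled_map (EtModW.pull Λ g) hk, Y ⋙ EtModW.pull Λ g, Functor.whiskerRight v _,
    isAdic_map (EtModW.pull Λ g) (pullPushAdj Λ g) hY, fun n => isConstructible_pull g (hYc n),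
    isARIso_map (EtModW.pull Λ g) v hv⟩

/-- locality of being adic up to translation for a finite jointly surjective family -/
theorem isARAdicC_iff_jointly [IsLocallyNoetherian X] {κ : Type} [Finite κ] (U : κ → Scheme.{u})
    (g : ∀ i, U i ⟶ X) (hsurj : ∀ x : X, ∃ i, x ∈ Set.range (g i).base) {F : ARSys.PS (EtModW.Mod Λ X)}
    (hc : ∀ n : ℕ, EtModW.IsConstructible Λ (F.obj (op n))) (hk : ARSys.TermKilled I F) :
    IsARAdicC I F ↔ ∀ i, IsARAdicC I (F ⋙ EtModW.pull Λ (g i)) := by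
  refine ⟨fun h i => h.pull (g i), fun h => ?_⟩
  have := Fintype.ofFinite κ
  choose r hr using fun i => exists_bound (h i).isARAdic
  refine isARAdicC_of (isARAdic_of_jointly (fun i => EtModW.pull Λ (g i)) (fun {P Q} f hf => ?_)
    (Or.inl (IsNoetherian.noetherian I)) hk (Finset.univ.sup r)
    (fun i => (hr i).1.mono (Finset.le_sup (Finset.mem_univ i)))
    (fun i => factors_mono (hr i).2 (Finset.le_sup (Finset.mem_univ i)))) hc
  refine EtFound.eq_of_stalks f 0 fun k _ _ ζ => ?_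
  obtain ⟨i, hi⟩ := hsurj (ζ.base (default : Spec (CommRingCat.of k)))
  obtain ⟨Ω, _, _, z, e, he⟩ := EtFound.exists_lift_extension (g i) ζ hi
  let α : EtModW.pull Λ (g i) ⋙ EtModW.stalk Λ z ≅ EtModW.stalk Λ ζ :=
    EtFound.sheafFiberPullIso (g i) z ≪≫ eqToIso (congrArg (fun q => EtModW.stalk Λ q) he.symm) ≪≫
      (EtFound.stalkExtIso (ModuleCat.{u + 1} Λ) ζ e).symm
  have h1 := NatIso.naturality_1 α f
  have h2 := NatIso.naturality_1 α (0 : P ⟶ Q)
  refine h1.symm.trans (Eq.trans ?_ h2)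
  exact congrArg (fun q => α.inv.app P ≫ (EtModW.stalk Λ z).map q ≫ α.hom.app Q)
    ((hf i).trans (Functor.map_zero _ _ _).symm)

omit [IsNoetherianRing Λ] in
/-- stalk functors only depend on the point -/
theorem nonempty_stalkFunctor_iso {k k' : Type u} [Field k] [IsSepClosed k] [Field k'] [IsSepClosed k']
    (ξ : Spec (CommRingCat.of k) ⟶ X) (ξ' : Spec (CommRingCat.of k') ⟶ X)
    (h : ξ.base (default : Spec (CommRingCat.of k)) = ξ'.base (default : Spec (CommRingCat.of k'))) :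
    Nonempty (EtModW.stalk Λ ξ ≅ EtModW.stalk Λ ξ') := by
  obtain ⟨Ω, _, _, z, e, he⟩ := EtFound.exists_lift_extension ξ ξ' ⟨default, h⟩
  exact ⟨EtFound.stalkExtIso (ModuleCat.{u + 1} Λ) ξ z ≪≫
    eqToIso (congrArg (fun q => EtModW.stalk Λ q) he.symm) ≪≫
      (EtFound.stalkExtIso (ModuleCat.{u + 1} Λ) ξ' e).symm⟩

omit [IsNoetherianRing Λ] in
/-- specialisation maps of locally constant sheaves of modules are bijective -/
theorem bijective_cospec {F : EtModW.Mod Λ X} (hF : EtModW.IsFTLocConst Λ F) {k k' : Type u} [Field k]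
    [IsAlgClosed k] [Field k'] [IsAlgClosed k'] {η : Spec (CommRingCat.of k) ⟶ X} {η' : Spec (CommRingCat.of k') ⟶ X}
    (φ : Scheme.pointSmallEtale η' ⟶ Scheme.pointSmallEtale η) :
    Function.Bijective ((GrothendieckTopology.Point.Hom.sheafFiber (A := ModuleCat.{u + 1} Λ) φ).app F) := by
  obtain ⟨U, p, hp, ⟨c⟩⟩ := FTConst.exists_chart hF (η.base (default : Spec (CommRingCat.of k)))
  obtain ⟨z, -⟩ := Scheme.pointSmallEtaleFiberObjToPreimage_surjective η rfl U ⟨p, hp⟩
  refine (Function.Bijective.of_comp_iff _ (c.const k η z)).1 ?_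
  have e : (c.φ ≫ (Scheme.pointSmallEtale η).toPresheafFiber U z F.obj) ≫
      (GrothendieckTopology.Point.Hom.sheafFiber (A := ModuleCat.{u + 1} Λ) φ).app F =
      c.φ ≫ (Scheme.pointSmallEtale η').toPresheafFiber U (φ.hom.app U z) F.obj := by
    rw [Category.assoc]
    refine congrArg (c.φ ≫ ·) ?_
    exact (Scheme.pointSmallEtale η).toPresheafFiber_presheafFiberDesc (P := F.obj)
      (fun W w => (Scheme.pointSmallEtale η').toPresheafFiber W (φ.hom.app W w) F.obj)
      (fun W W' f x => by rw [GrothendieckTopology.Point.toPresheafFiber_w, NatTrans.naturality_apply]) U z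
  refine Eq.mp (congrArg Function.Bijective (funext fun m => ?_)) (c.const k' η' (φ.hom.app U z))
  exact (ConcreteCategory.congr_hom e m).symm.trans (ConcreteCategory.comp_apply _ _ m)

/-- functions constant along specialisations are constant on connected locally Noetherian schemes -/
theorem apply_eq_of_specializes {Y : Scheme.{u}} [IsLocallyNoetherian Y] [ConnectedSpace Y] {β : Type*} (f : Y → β)
    (h : ∀ a b : Y, a ⤳ b → f a = f b) (a b : Y) : f a = f b :=
  IsLocallyConstant.apply_eq_of_isPreconnected ((IsLocallyConstant.iff_exists_open f).2 fun p => by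
    obtain ⟨W, hpW, hW⟩ := EtFound.exists_open_components (C := (Set.univ : Set Y)) isClosed_univ p
    refine ⟨W, W.2, hpW, fun q hq => ?_⟩
    obtain ⟨g, -, hgp, hgq⟩ := hW q hq (Set.mem_univ q)
    exact (h _ _ hgq).symm.trans (h _ _ hgp)) isPreconnected_univ (Set.mem_univ a) (Set.mem_univ b)

omit [IsNoetherianRing Λ] in
/-- along a locally constant system all stalk systems are isomorphic -/
theorem nonempty_stalkSystem_iso [IsLocallyNoetherian X] [ConnectedSpace X] {F : ℕᵒᵖ ⥤ EtModW.Mod Λ X}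
    (hF : ∀ n : ℕ, EtModW.IsFTLocConst Λ (F.obj (op n)))
    {Ω : Type u} [Field Ω] [IsSepClosed Ω] (s : Spec (CommRingCat.of Ω) ⟶ X)
    {Ω' : Type u} [Field Ω'] [IsSepClosed Ω'] (s' : Spec (CommRingCat.of Ω') ⟶ X) :
    Nonempty ((F ⋙ EtModW.stalk Λ s) ≅ (F ⋙ EtModW.stalk Λ s')) := by
  let P : X → Prop := fun x => ∀ (k : Type u) [Field k] [IsSepClosed k] (ζ : Spec (CommRingCat.of k) ⟶ X),
    ζ.base (default : Spec (CommRingCat.of k)) = x → Nonempty (F ⋙ EtModW.stalk Λ s ≅ F ⋙ EtModW.stalk Λ ζ)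
  have hP : ∀ {k : Type u} [Field k] [IsSepClosed k] (ζ : Spec (CommRingCat.of k) ⟶ X),
      Nonempty (F ⋙ EtModW.stalk Λ s ≅ F ⋙ EtModW.stalk Λ ζ) → P (ζ.base (default : Spec (CommRingCat.of k))) :=
    fun ζ ⟨e⟩ k' _ _ ζ' h' => by
      obtain ⟨α⟩ := nonempty_stalkFunctor_iso (Λ := Λ) ζ ζ' h'.symm
      exact ⟨e ≪≫ Functor.isoWhiskerLeft F α⟩
  have hstep : ∀ a b : X, a ⤳ b → P a = P b := fun a b hab => by
    obtain ⟨k, _, _, η, hη⟩ := EtFound.exists_geomPoint b
    obtain ⟨k', _, _, η', hη'⟩ := EtFound.exists_geomPoint a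
    obtain ⟨φ, -⟩ := EtFound.exists_pointHom η η' (U := Scheme.Etale.mk (𝟙 X))
      (CategoryTheory.Over.homMk η (Category.comp_id _)) (CategoryTheory.Over.homMk η' (Category.comp_id _))
      ((specializes_of_eq hη').trans (hab.trans (specializes_of_eq hη.symm)))
    let τ : F ⋙ EtModW.stalk Λ η ⟶ F ⋙ EtModW.stalk Λ η' :=
      Functor.whiskerLeft F (GrothendieckTopology.Point.Hom.sheafFiber (A := ModuleCat.{u + 1} Λ) φ)
    have : ∀ n : ℕᵒᵖ, IsIso (τ.app n) := fun n =>
      (ConcreteCategory.isIso_iff_bijective (τ.app n)).2 (bijective_cospec (hF n.unop) φ)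
    have : IsIso τ := NatIso.isIso_of_isIso_app τ
    refine propext ⟨fun h => hη ▸ hP η ?_, fun h => hη' ▸ hP η' ?_⟩
    · obtain ⟨e⟩ := h k' η' hη'
      exact ⟨e ≪≫ (asIso τ).symm⟩
    · obtain ⟨e⟩ := h k η hη
      exact ⟨e ≪≫ asIso τ⟩
  have h := apply_eq_of_specializes P hstep (s.base (default : Spec (CommRingCat.of Ω)))
    (s'.base (default : Spec (CommRingCat.of Ω')))
  exact cast h (hP s ⟨Iso.refl _⟩) Ω' s' rfl

/-- a locally constant system is adic up to translation as soon as one stalk system is -/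
theorem isARAdicC_of_stalk [IsLocallyNoetherian X] [ConnectedSpace X] {F : ARSys.PS (EtModW.Mod Λ X)}
    (hl : ∀ n : ℕ, EtModW.IsFTLocConst Λ (F.obj (op n))) (hc : ∀ n : ℕ, EtModW.IsConstructible Λ (F.obj (op n)))
    (hk : ARSys.TermKilled I F) {Ω : Type u} [Field Ω] [IsSepClosed Ω] (s : Spec (CommRingCat.of Ω) ⟶ X)
    (h : ARSys.IsARAdic I (F ⋙ EtModW.stalk Λ s)) : IsARAdicC I F := by
  obtain ⟨r, hrs, hrf⟩ := exists_bound h
  choose k hk' hk'' ζ hζ using fun x : X => EtFound.exists_geomPoint x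
  have hiso : ∀ x, Nonempty (F ⋙ EtModW.stalk Λ s ≅ F ⋙ @EtModW.stalk Λ _ X (k x) (hk' x) (by
      let _ := hk' x; have := hk'' x; infer_instance) (ζ x)) := fun x => by
    let _ := hk' x; have := hk'' x
    exact nonempty_stalkSystem_iso hl s (ζ x)
  let _ : ∀ x, Field (k x) := hk'
  have : ∀ x, IsAlgClosed (k x) := hk''
  refine isARAdicC_of (isARAdic_of_jointly (fun x => EtModW.stalk Λ (ζ x)) (fun {P Q} f hf => ?_)
    (Or.inl (IsNoetherian.noetherian I)) hk r (fun x => hrs.of_iso (hiso x).some)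
    (fun x => factors_of_iso (hiso x).some hrf)) hc
  refine EtFound.eq_of_stalks f 0 fun L _ _ η => ?_
  obtain ⟨α⟩ := nonempty_stalkFunctor_iso (Λ := Λ) (ζ (η.base (default : Spec (CommRingCat.of L)))) η (hζ _)
  refine (NatIso.naturality_1 α f).symm.trans (Eq.trans ?_ (NatIso.naturality_1 α (0 : P ⟶ Q)))
  exact congrArg (fun q => α.inv.app P ≫ q ≫ α.hom.app Q) ((hf _).trans (Functor.map_zero _ _ _).symm)

end Groth.Agent.EtModWLib
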