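import Groth.Agent.EtModWLib.Uniform.Generic
import Groth.Agent.EtModWLib.Uniform.Descend
import Groth.Agent.EtFound.NoethConstr

/-! quotients of constructible sheaves of modules near generic points -/

universe u

open CategoryTheory CategoryTheory.Limits AlgebraicGeometry Opposite Topology TopologicalSpace

namespace Groth.Agent.EtModWLib

open FTConst (Chart sect_injective sect_exact stalk_germ stalk_injective)

set_option backward.isDefEq.respectTransparency.types false

variable {Λ : Type (u + 1)} [CommRing Λ]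

section

variable {X : Scheme.{u}} {G : EtModW.Mod Λ X} {U : X.Etale} (c : Chart G U)
  {Ω : Type u} [Field Ω] [IsSepClosed Ω] {ξ : Spec (CommRingCat.of Ω) ⟶ X}
  (u : (Scheme.pointSmallEtale ξ).fiber.obj U)

/-- the sections of a chart that die in a quotient near a given geometric point -/
noncomputable def killSub {Q : EtModW.Mod Λ X} (π : G ⟶ Q) : Submodule Λ c.M :=
  LinearMap.ker (c.φ ≫ π.hom.app (op U) ≫ (Scheme.pointSmallEtale ξ).toPresheafFiber U u Q.obj).hom

theorem mem_killSub {Q : EtModW.Mod Λ X} (π : G ⟶ Q) (m : c.M) :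
    m ∈ killSub c u π ↔
      (Scheme.pointSmallEtale ξ).toPresheafFiber U u Q.obj (π.hom.app (op U) (c.φ m)) = 0 :=
  Iff.rfl

theorem killSub_mono {Q Q' : EtModW.Mod Λ X} (π : G ⟶ Q) (f : Q ⟶ Q') :
    killSub c u π ≤ killSub c u (π ≫ f) := fun m hm => by
  rw [mem_killSub] at hm ⊢
  refine (congrArg ((Scheme.pointSmallEtale ξ).toPresheafFiber U u Q'.obj)
    (ConcreteCategory.comp_apply (π.hom.app (op U)) (f.hom.app (op U)) (c.φ m))).trans ?_
  rw [← stalk_germ]
  exact (congrArg ((EtModW.stalk Λ ξ).map f) hm).trans (map_zero _)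

/-- what dies at a point specialised from `u` dies at `u` -/
theorem mem_killSub_of_germ {Q : EtModW.Mod Λ X} (π : G ⟶ Q) {k : Type u} [Field k] [IsSepClosed k]
    {ζ : Spec (CommRingCat.of k) ⟶ X} (z : (Scheme.pointSmallEtale ζ).fiber.obj U)
    (hz : (u.left : Spec (CommRingCat.of Ω) ⟶ U.left).base (default : Spec (CommRingCat.of Ω)) ⤳
      (z.left : Spec (CommRingCat.of k) ⟶ U.left).base (default : Spec (CommRingCat.of k)))
    (m : c.M) (h : (EtModW.stalk Λ ζ).map π ((Scheme.pointSmallEtale ζ).toPresheafFiber U z G.obj (c.φ m)) = 0) :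
    m ∈ killSub c u π :=
  (mem_killSub c u π m).2 (germ_zero_of_specializes _ u z hz ((stalk_germ π z (c.φ m)).symm.trans h))

/-- what dies at `u` dies on one neighbourhood -/
theorem exists_kill_nhd [IsNoetherianRing Λ] {Q : EtModW.Mod Λ X} (π : G ⟶ Q) :
    ∃ (V : X.Etale) (r : V ⟶ U) (v : (Scheme.pointSmallEtale ξ).fiber.obj V),
      (Scheme.pointSmallEtale ξ).fiber.map r v = u ∧
        ∀ m ∈ killSub c u π, π.hom.app (op V) (G.obj.map r.op (c.φ m)) = 0 := by
  obtain ⟨n, g, hg⟩ := Submodule.fg_iff_exists_fin_generating_family.1 (IsNoetherian.noetherian (killSub c u π))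
  obtain ⟨V, r, v, hv, hr⟩ := exists_common_vanish u (Finset.univ : Finset (Fin n)) (fun _ => Q)
    (fun j => π.hom.app (op U) (c.φ (g j))) fun j _ =>
      (mem_killSub c u π (g j)).1 (hg.le (Submodule.subset_span ⟨j, rfl⟩))
  refine ⟨V, r, v, hv, fun m hm => ?_⟩
  have hle : killSub c u π ≤ LinearMap.ker (c.φ ≫ G.obj.map r.op ≫ π.hom.app (op V)).hom := by
    rw [← hg, Submodule.span_le]
    rintro _ ⟨j, rfl⟩
    exact (NatTrans.naturality_apply π.hom r.op (c.φ (g j))).trans (hr j (Finset.mem_univ j))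
  exact hle hm

end

/-- a chart of a sheaf gives local constancy near the points it covers -/
theorem exists_open_of_chart {X : Scheme.{u}} {F : EtModW.Mod Λ X} {V : X.Etale} (d : Chart F V) (p : V.left) :
    ∃ O : X.Opens, V.hom.base p ∈ O ∧ EtModW.IsFTLocConst Λ ((EtModW.pull Λ O.ι).obj F) := by
  have : AlgebraicGeometry.Etale V.hom := V.prop
  let O : X.Opens := ⟨Set.range V.hom.base, V.hom.isOpenMap.isOpen_range⟩
  refine ⟨O, ⟨p, rfl⟩, FTConst.isFTLocConst_of_charts _ fun x => ?_⟩
  obtain ⟨z, hz⟩ : O.ι.base x ∈ (O : Set X) := x.2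
  obtain ⟨w, -, hw⟩ := Scheme.Pullback.exists_preimage_pullback (f := V.hom) (g := O.ι) z x hz
  exact ⟨(EtCoh.bc O.ι).obj V, w, hw, ⟨{
    M := d.M
    φ := d.φ ≫ ((pullPushAdj Λ O.ι).unit.app F).hom.app (op V)
    const := EtFound.constBy_pull O.ι d.const }⟩⟩

variable {X : Scheme.{u}}

/-- near a point generic in everything the kernel out of a locally constant sheaf is locally constant -/
theorem exists_open_kernel [IsNoetherianRing Λ] [IsLocallyNoetherian X] {t : X} (ht : ∀ y, t ⤳ y)
    {G Q : EtModW.Mod Λ X} (hG : EtModW.IsFTLocConst Λ G) (π : G ⟶ Q) :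
    ∃ O : X.Opens, t ∈ O ∧ EtModW.IsFTLocConst Λ ((EtModW.pull Λ O.ι).obj (kernel π)) := by
  obtain ⟨U, p, hp, ⟨c⟩⟩ := FTConst.exists_chart hG t
  obtain ⟨Ω, _, _, ξ, u, hu⟩ := EtFound.exists_algClosed_point U p
  obtain ⟨V, r, v, hv, hr⟩ := exists_kill_nhd c u π
  obtain ⟨W, hvW, hW⟩ := EtFound.exists_generic_open ht V
    ((EtFound.base_of_point v).trans ((EtFound.base_of_point u).symm.trans ((congrArg _ hu).trans hp)))
  have : AlgebraicGeometry.Etale V.hom := V.prop
  let V' : X.Etale := Scheme.Etale.mk (W.ι ≫ V.hom)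
  let r' : V' ⟶ V := MorphismProperty.Over.homMk W.ι rfl
  let N := killSub c u π
  have hlift : ∀ m : N, ∃ a, (kernel.ι π).hom.app (op V') a = G.obj.map (r' ≫ r).op (c.φ m.1) := fun m => by
    refine sect_exact (S := ShortComplex.mk (kernel.ι π) π (kernel.condition π)) (ShortComplex.exact_kernel π) V' _ ?_
    show π.hom.app (op V') (G.obj.map (r' ≫ r).op (c.φ m.1)) = 0
    rw [op_comp, Functor.map_comp_apply]
    exact (NatTrans.naturality_apply π.hom r'.op _).trans ((congrArg _ (hr m.1 m.2)).trans (map_zero _))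
  choose l hl using hlift
  let φ : ModuleCat.of Λ N ⟶ (kernel π).obj.obj (op V') := ModuleCat.ofHom
    { toFun := l
      map_add' := fun m n => sect_injective (kernel.ι π) V' (by
        rw [map_add, hl, hl, hl, Submodule.coe_add, map_add, map_add])
      map_smul' := fun a m => sect_injective (kernel.ι π) V' (by
        rw [RingHom.id_apply, map_smul, hl, hl, Submodule.coe_smul, map_smul, map_smul]) }
  have hd : EtFound.ConstBy (kernel π) φ := by
    intro k _ _ ζ z
    let c' := c.restrict (r' ≫ r)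
    have key : ∀ m : N, (EtModW.stalk Λ ζ).map (kernel.ι π)
        ((Scheme.pointSmallEtale ζ).toPresheafFiber V' z (kernel π).obj (l m)) =
        (Scheme.pointSmallEtale ζ).toPresheafFiber V' z G.obj (c'.φ m.1) := fun m => by
      rw [stalk_germ, hl]
      rfl
    refine ⟨fun a b e => Subtype.ext ((c'.const k ζ z).1 ?_), fun q => ?_⟩
    · exact (key a).symm.trans ((congrArg _ e).trans (key b))
    · obtain ⟨m, hm⟩ := c'.exists_germ z ((EtModW.stalk Λ ζ).map (kernel.ι π) q)
      have h0 : (EtModW.stalk Λ ζ).map π ((EtModW.stalk Λ ζ).map (kernel.ι π) q) = 0 := by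
        rw [← ConcreteCategory.comp_apply, ← Functor.map_comp, kernel.condition, Functor.map_zero]
        rfl
      rw [← hm] at h0
      have hm' : m ∈ N := by
        refine mem_killSub_of_germ c u π ((Scheme.pointSmallEtale ζ).fiber.map (r' ≫ r) z) ?_ m ?_
        · have h1 := ((hW _ ((z.left : Spec (CommRingCat.of k) ⟶ W.toScheme).base (default : Spec (CommRingCat.of k))).2).map
            r.left.continuous)
          rw [← hv]
          refine (specializes_of_eq ?_).trans (h1.trans (specializes_of_eq ?_))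
          · exact Scheme.Hom.comp_apply _ _ _
          · show r.left.base (W.ι.base _) = ((z.left : Spec (CommRingCat.of k) ⟶ W.toScheme) ≫ W.ι ≫ r.left).base
              (default : Spec (CommRingCat.of k))
            rw [Scheme.Hom.comp_apply, Scheme.Hom.comp_apply]
            rfl
        · refine Eq.trans (congrArg _ ?_) h0
          exact ((Scheme.pointSmallEtale ζ).toPresheafFiber_w_apply (r' ≫ r) z G.obj (c.φ m)).symm
      exact ⟨⟨m, hm'⟩, stalk_injective ζ (kernel.ι π) ((key ⟨m, hm'⟩).trans hm)⟩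
  obtain ⟨O, hO, hO'⟩ := exists_open_of_chart { M := ModuleCat.of Λ N, φ := φ, const := hd }
    (⟨_, hvW⟩ : W.toScheme)
  refine ⟨O, ?_, hO'⟩
  have e : V'.hom.base (⟨_, hvW⟩ : W.toScheme) = t :=
    (Scheme.Hom.comp_apply _ _ _).trans
      ((EtFound.base_of_point v).trans ((EtFound.base_of_point u).symm.trans ((congrArg _ hu).trans hp)))
  exact e ▸ hO

/-- near a point generic in everything a chain of quotients of a locally constant sheaf has stationary kernels -/
theorem exists_open_stationary [IsNoetherianRing Λ] [IsLocallyNoetherian X] {t : X} (ht : ∀ y, t ⤳ y)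
    {G : EtModW.Mod Λ X} (hG : EtModW.IsFTLocConst Λ G) (Q : ℕ → EtModW.Mod Λ X) (π : ∀ i, G ⟶ Q i)
    (hπ : ∀ i j, i ≤ j → ∃ f, π i ≫ f = π j) :
    ∃ (O : X.Opens) (i₀ : ℕ), t ∈ O ∧ ∀ i, i₀ ≤ i → ∀ (k : Type u) [Field k] [IsSepClosed k]
      (ζ : Spec (CommRingCat.of k) ⟶ X), ζ.base (default : Spec (CommRingCat.of k)) ∈ O →
        ∀ x, (EtModW.stalk Λ ζ).map (π i) x = 0 → (EtModW.stalk Λ ζ).map (π i₀) x = 0 := by
  obtain ⟨U, p, hp, ⟨c⟩⟩ := FTConst.exists_chart hG t
  obtain ⟨Ω, _, _, ξ, u, hu⟩ := EtFound.exists_algClosed_point U p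
  have : IsNoetherian Λ c.M := isNoetherian_of_isNoetherianRing_of_finite Λ c.M
  obtain ⟨i₀, hi₀⟩ := monotone_stabilizes_iff_noetherian.2 this ⟨fun i => killSub c u (π i), fun i j h => by
    obtain ⟨f, hf⟩ := hπ i j h
    show killSub c u (π i) ≤ killSub c u (π j)
    rw [← hf]
    exact killSub_mono c u (π i) f⟩
  obtain ⟨V, r, v, hv, hr⟩ := exists_kill_nhd c u (π i₀)
  obtain ⟨W, hvW, hW⟩ := EtFound.exists_generic_open ht V
    ((EtFound.base_of_point v).trans ((EtFound.base_of_point u).symm.trans ((congrArg _ hu).trans hp)))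
  have : AlgebraicGeometry.Etale V.hom := V.prop
  refine ⟨⟨V.hom.base '' (W : Set V.left), V.hom.isOpenMap (W : Set V.left) W.2⟩, i₀, ⟨_, hvW,
    (EtFound.base_of_point v).trans ((EtFound.base_of_point u).symm.trans ((congrArg _ hu).trans hp))⟩,
    fun i hi k _ _ ζ ⟨q, hqW, hq⟩ => ?_⟩
  obtain ⟨Ω', _, _, ζ', z, hz⟩ := EtFound.exists_algClosed_point V q
  suffices h : ∀ x, (EtModW.stalk Λ ζ').map (π i) x = 0 → (EtModW.stalk Λ ζ').map (π i₀) x = 0 by
    obtain ⟨L, _, _, a, e, he⟩ := EtFound.exists_lift_extension ζ' ζ ⟨default,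
      (EtFound.base_of_point z).symm.trans ((congrArg _ hz).trans hq)⟩
    let α : EtModW.stalk Λ ζ ≅ EtModW.stalk Λ ζ' :=
      EtFound.stalkExtIso (ModuleCat.{u + 1} Λ) ζ e ≪≫
        eqToIso (congrArg (fun q => EtModW.stalk Λ q) he) ≪≫ (EtFound.stalkExtIso (ModuleCat.{u + 1} Λ) ζ' a).symm
    have hnat : ∀ (j : ℕ) x, (EtModW.stalk Λ ζ').map (π j) (α.hom.app G x) =
        α.hom.app (Q j) ((EtModW.stalk Λ ζ).map (π j) x) := fun j x => by
      rw [← ConcreteCategory.comp_apply, ← α.hom.naturality, ConcreteCategory.comp_apply]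
    intro x hx
    have h1 := h (α.hom.app G x) (by rw [hnat, hx, map_zero])
    rw [hnat] at h1
    exact ((ConcreteCategory.isIso_iff_bijective (α.hom.app (Q i₀))).1 inferInstance).1 (h1.trans (map_zero _).symm)
  intro x hx
  obtain ⟨m, hm⟩ := (c.restrict r).exists_germ z x
  rw [← hm] at hx ⊢
  have hmem : m ∈ killSub c u (π i₀) := by
    rw [show killSub c u (π i₀) = killSub c u (π i) from hi₀ i hi]
    refine mem_killSub_of_germ c u (π i) ((Scheme.pointSmallEtale ζ').fiber.map r z) ?_ m ?_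
    · rw [← hv]
      refine (specializes_of_eq ?_).trans (((hW q hqW).map r.left.continuous).trans (specializes_of_eq ?_))
      · exact Scheme.Hom.comp_apply _ _ _
      · rw [← hz]
        exact (Scheme.Hom.comp_apply _ _ _).symm
    · refine Eq.trans (congrArg _ ?_) hx
      exact ((Scheme.pointSmallEtale ζ').toPresheafFiber_w_apply r z G.obj (c.φ m)).symm
  refine (stalk_germ (π i₀) z _).trans ((congrArg _ ?_).trans (map_zero _))
  exact hr m hmem

end Groth.Agent.EtModWLib
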