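import Groth.Agent.EtModWLib.Noeth.Generic
import Groth.Agent.EtFound.Detect

/-! constructible sheaves of modules are Noetherian objects -/

universe u

open CategoryTheory CategoryTheory.Limits AlgebraicGeometry Opposite Topology TopologicalSpace

namespace Groth.Agent.EtModWLib

set_option backward.isDefEq.respectTransparency.types false

variable {Λ : Type (u + 1)} [CommRing Λ] {X : Scheme.{u}}

/-- a piece near every point along its closure gives constructibility -/
theorem isConstructible_of_generic [IsLocallyNoetherian X] {F : EtModW.Mod Λ X}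
    (h : ∀ x : X, ∃ V : X.Opens, x ∈ V ∧ IsPiece F ((V : Set X) ∩ closure {x})) : EtModW.IsConstructible Λ F := by
  intro U hU
  have : NoetherianSpace ↥(U : Set X) := by
    have : IsNoetherianRing Γ(X, U) := IsLocallyNoetherian.component_noetherian ⟨U, hU⟩
    exact noetherianSpace_of_isAffineOpen U hU
  have key : ∃ (n : ℕ) (E : Fin n → Set X), (∀ k, IsPiece F (E k) ∧ E k ⊆ U) ∧
      (Set.univ : Set ↥(U : Set X)) ⊆ Subtype.val ⁻¹' ⋃ k, E k := by
    refine SpecLib.irred_induction (P := fun C : Set ↥(U : Set X) => ∃ (n : ℕ) (E : Fin n → Set X),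
      (∀ k, IsPiece F (E k) ∧ E k ⊆ U) ∧ C ⊆ Subtype.val ⁻¹' ⋃ k, E k) ⟨0, Fin.elim0, fun k => k.elim0, by simp⟩
      (fun A B _ _ => ?_) (fun Y hY hirr ih => ?_) isClosed_univ
    · rintro ⟨n, E, hE, hA⟩ ⟨m, E', hE', hB⟩
      refine ⟨n + m, Fin.append E E', fun k => ?_, Set.union_subset (hA.trans ?_) (hB.trans ?_)⟩
      · refine Fin.addCases (fun i => ?_) (fun i => ?_) k
        · rw [Fin.append_left]; exact hE i
        · rw [Fin.append_right]; exact hE' i
      · exact Set.preimage_mono (Set.iUnion_subset fun i => Set.subset_iUnion_of_subset (Fin.castAdd m i)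
          (Fin.append_left E E' i).ge)
      · exact Set.preimage_mono (Set.iUnion_subset fun i => Set.subset_iUnion_of_subset (Fin.natAdd n i)
          (Fin.append_right E E' i).ge)
    · have : QuasiSober ↥(U : Set X) := U.isOpenEmbedding'.quasiSober
      have hx : IsGenericPoint hirr.genericPoint Y := by
        simpa [hY.closure_eq] using hirr.isGenericPoint_genericPoint_closure
      obtain ⟨V, hxV, hV⟩ := h hirr.genericPoint.1
      let S := (V : Set X) ∩ (U : Set X) ∩ closure {hirr.genericPoint.1}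
      have hS : IsPiece F S := hV.mono (fun y hy => ⟨hy.1.1, hy.2⟩)
        ((V.2.inter U.2).isLocallyClosed.inter isClosed_closure.isLocallyClosed)
      obtain ⟨n, E, hE, hEc⟩ := ih (Y ∩ (Subtype.val ⁻¹' (V : Set X))ᶜ)
        (hY.inter (V.2.preimage continuous_subtype_val).isClosed_compl)
        (Set.inter_subset_left.ssubset_of_ne fun e => (e.ge hx.mem).2 hxV)
      refine ⟨n + 1, Fin.cons S E, fun k => ?_, fun y hy => ?_⟩
      · cases k using Fin.cases with
        | zero => exact ⟨hS, fun y hy => hy.1.2⟩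
        | succ i => simpa using hE i
      · by_cases hyV : (y : X) ∈ V
        · refine Set.mem_iUnion.2 ⟨0, ⟨hyV, y.2⟩, ?_⟩
          exact ((hx.specializes hy).map continuous_subtype_val).mem_closure
        · obtain ⟨i, hi⟩ := Set.mem_iUnion.1 (hEc ⟨hy, hyV⟩)
          exact Set.mem_iUnion.2 ⟨i.succ, by simpa using hi⟩
  obtain ⟨n, E, hE, hcov⟩ := key
  refine adaptedStrata_of_cover U.2.isLocallyClosed E (fun k => (hE k).1) (fun k => ?_)
    fun x hx => hcov (Set.mem_univ ⟨x, hx⟩)
  obtain ⟨O, C, hO, hC, e⟩ := (hE k).1.isLocallyClosed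
  rw [e, Set.preimage_inter]
  exact (SpecLib.isConstructible_of_isOpen (hO.preimage continuous_subtype_val)).inter
    (SpecLib.isConstructible_of_isClosed (hC.preimage continuous_subtype_val))

/-- a constructible sheaf has a piece near every point along its closure -/
theorem exists_generic_piece {F : EtModW.Mod Λ X} (hF : EtModW.IsConstructible Λ F) (x : X) :
    ∃ V : X.Opens, x ∈ V ∧ IsPiece F ((V : Set X) ∩ closure {x}) := by
  obtain ⟨U, hU, hxU, -⟩ := exists_isAffineOpen_mem_and_subset (U := (⊤ : X.Opens)) (x := x) trivial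
  obtain ⟨n, E, hE, -, hu⟩ := exists_pieces (hF U hU)
  obtain ⟨k, hk⟩ := Set.mem_iUnion.1 (hu.ge hxU)
  obtain ⟨O, C, hO, hC, e⟩ := (hE k).isLocallyClosed
  rw [e] at hk
  exact ⟨⟨O, hO⟩, hk.1, (hE k).mono (fun y hy => e ▸ ⟨hy.1, closure_minimal (by simpa using hk.2) hC hy.2⟩)
    (hO.isLocallyClosed.inter isClosed_closure.isLocallyClosed)⟩

variable [IsNoetherianRing Λ] [IsLocallyNoetherian X]

/-- kernels out of constructible sheaves are constructible -/
theorem isConstructible_kernel_noeth {F Q : EtModW.Mod Λ X} (hF : EtModW.IsConstructible Λ F) (π : F ⟶ Q) :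
    EtModW.IsConstructible Λ (kernel π) := by
  refine isConstructible_of_generic fun x => ?_
  obtain ⟨V, hxV, T, g, hg, hr, hT⟩ := exists_generic_piece hF x
  obtain ⟨t, ht⟩ : x ∈ Set.range g.base := hr.ge ⟨hxV, subset_closure rfl⟩
  have : IsLocallyNoetherian T := LocallyOfFiniteType.isLocallyNoetherian g
  have hgen : ∀ y, t ⤳ y := fun y => g.isEmbedding.isInducing.specializes_iff.1
    (ht.symm ▸ specializes_iff_mem_closure.2 ((hr.le ⟨y, rfl⟩).2))
  obtain ⟨O, htO, hO⟩ := exists_open_kernel hgen hT ((EtModW.pull Λ g).map π)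
  obtain ⟨O₀, hO₀, hOO⟩ := g.isEmbedding.isInducing.isOpen_iff.1 O.2
  refine ⟨V ⊓ ⟨O₀, hO₀⟩, ⟨hxV, ?_⟩, O.toScheme, O.ι ≫ g, inferInstance, ?_,
    isFTLocConst_of_iso ((EtModW.pull Λ O.ι).mapIso (PreservesKernel.iso (EtModW.pull Λ g) π).symm ≪≫
      ((pullCompMod O.ι g).app (kernel π)).symm) hO⟩
  · rw [← ht]
    exact hOO.ge htO
  · rw [Scheme.Hom.comp_base, TopCat.coe_comp, Set.range_comp, O.range_ι,
      show (O : Set T) = g.base ⁻¹' O₀ from hOO.symm, Set.image_preimage_eq_inter_range, hr]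
    exact Set.ext fun y => ⟨fun ⟨a, b, c⟩ => ⟨⟨b, a⟩, c⟩, fun ⟨⟨a, b⟩, c⟩ => ⟨b, a, c⟩⟩

/-- quotients of constructible sheaves are constructible -/
theorem isConstructible_of_epi_noeth {F Q : EtModW.Mod Λ X} (hF : EtModW.IsConstructible Λ F) (π : F ⟶ Q) [Epi π] :
    EtModW.IsConstructible Λ Q :=
  isConstructible_of_iso
    (IsColimit.coconePointUniqueUpToIso (cokernelIsCokernel (kernel.ι π))
      (Abelian.epiIsCokernelOfKernel (KernelFork.ofι (kernel.ι π) (kernel.condition π)) (kernelIsKernel π)))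
    (isConstructible_cokernel (isConstructible_kernel_noeth hF π) hF (kernel.ι π))

/-- subobjects of constructible sheaves are constructible -/
theorem isConstructible_of_mono_noeth {R F : EtModW.Mod Λ X} (hF : EtModW.IsConstructible Λ F) (i : R ⟶ F) [Mono i] :
    EtModW.IsConstructible Λ R :=
  isConstructible_of_iso
    (IsLimit.conePointUniqueUpToIso (kernelIsKernel (cokernel.π i))
      (Abelian.monoIsKernelOfCokernel (CokernelCofork.ofπ (cokernel.π i) (cokernel.condition i)) (cokernelIsCokernel i)))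
    (isConstructible_kernel_noeth hF (cokernel.π i))

/-- chains of quotients of a constructible sheaf have stationary kernels on stalks -/
theorem exists_stationary [CompactSpace X] {F : EtModW.Mod Λ X} (hF : EtModW.IsConstructible Λ F)
    (Q : ℕ → EtModW.Mod Λ X) (π : ∀ i, F ⟶ Q i) (hπ : ∀ i j, i ≤ j → ∃ f, π i ≫ f = π j) :
    ∃ N, ∀ i, N ≤ i → ∀ (k : Type u) [Field k] [IsSepClosed k] (ζ : Spec (CommRingCat.of k) ⟶ X),
      ∀ x, (EtModW.stalk Λ ζ).map (π i) x = 0 → (EtModW.stalk Λ ζ).map (π N) x = 0 := by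
  have : IsNoetherian X := {}
  let Good : Set X → ℕ → Prop := fun C N => ∀ i, N ≤ i → ∀ (k : Type u) [Field k] [IsSepClosed k]
    (ζ : Spec (CommRingCat.of k) ⟶ X), ζ.base (default : Spec (CommRingCat.of k)) ∈ C →
      ∀ x, (EtModW.stalk Λ ζ).map (π i) x = 0 → (EtModW.stalk Λ ζ).map (π N) x = 0
  have mono : ∀ {C : Set X} {N N' : ℕ}, N ≤ N' → Good C N → Good C N' := fun {C N N'} hN hg i hi k _ _ ζ hζ x hx => by
    obtain ⟨f, hf⟩ := hπ N N' hN
    rw [← hf, Functor.map_comp, ConcreteCategory.comp_apply, hg i (hN.trans hi) k ζ hζ x hx, map_zero]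
  obtain ⟨N, hN⟩ : ∃ N, Good Set.univ N := by
    refine SpecLib.irred_induction (P := fun C => ∃ N, Good C N) ⟨0, fun i _ k _ _ ζ hζ => hζ.elim⟩
      (fun A B _ _ ⟨a, ha⟩ ⟨b, hb⟩ => ⟨max a b, fun i hi k _ _ ζ hζ => hζ.elim
        (mono (le_max_left a b) ha i hi k ζ) (mono (le_max_right a b) hb i hi k ζ)⟩)
      (fun Y hY hirr ih => ?_) isClosed_univ
    have hx : IsGenericPoint hirr.genericPoint Y := by
      simpa [hY.closure_eq] using hirr.isGenericPoint_genericPoint_closure
    obtain ⟨V, hxV, T, g, hg, hr, hT⟩ := exists_generic_piece hF hirr.genericPoint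
    obtain ⟨t, ht⟩ : hirr.genericPoint ∈ Set.range g.base := hr.ge ⟨hxV, subset_closure rfl⟩
    have : IsLocallyNoetherian T := LocallyOfFiniteType.isLocallyNoetherian g
    have hgen : ∀ y, t ⤳ y := fun y => g.isEmbedding.isInducing.specializes_iff.1
      ((specializes_of_eq ht).trans (specializes_iff_mem_closure.2 ((hr.le ⟨y, rfl⟩).2)))
    obtain ⟨O, N₀, htO, hO⟩ := exists_open_stationary hgen hT (fun i => (EtModW.pull Λ g).obj (Q i))
      (fun i => (EtModW.pull Λ g).map (π i)) fun i j h => by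
        obtain ⟨f, hf⟩ := hπ i j h
        exact ⟨(EtModW.pull Λ g).map f, by rw [← Functor.map_comp, hf]⟩
    obtain ⟨O', hO', hOe⟩ := g.isEmbedding.isInducing.isOpen_iff.1 O.2
    let V' : Set X := (V : Set X) ∩ O'
    obtain ⟨N₁, hN₁⟩ := ih (Y ∩ V'ᶜ) (hY.inter (V.2.inter hO').isClosed_compl)
      (Set.inter_subset_left.ssubset_of_ne fun e => (e.ge hx.mem).2
        ⟨hxV, Set.mem_of_eq_of_mem ht.symm (hOe.ge htO)⟩)
    refine ⟨max N₀ N₁, fun i hi k _ _ ζ hζ => ?_⟩
    by_cases hζV : ζ.base (default : Spec (CommRingCat.of k)) ∈ V'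
    · refine mono (C := V' ∩ Y) (le_max_left N₀ N₁) (fun i hi k _ _ ζ hζ x hx' => ?_) i hi k ζ ⟨hζV, hζ⟩
      obtain ⟨y, hy⟩ : ζ.base (default : Spec (CommRingCat.of k)) ∈ Set.range g.base :=
        hr.ge ⟨hζ.1.1, (hx.specializes hζ.2).mem_closure⟩
      obtain ⟨ζ', rfl, hζ'⟩ := exists_point_lift g ζ y (hy.trans (congrArg ζ.base (Subsingleton.elim _ _)))
      let α := EtFound.sheafFiberPullIso (A := ModuleCat.{u + 1} Λ) g ζ'
      have hyO : ζ'.base (default : Spec (CommRingCat.of k)) ∈ O := by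
        rw [Subsingleton.elim (α := Spec (CommRingCat.of k)) default (IsLocalRing.closedPoint k), hζ']
        exact hOe.le (show g.base y ∈ O' from hy ▸ hζ.1.2)
      have hnat : ∀ (j : ℕ) x, (EtModW.stalk Λ ζ').map ((EtModW.pull Λ g).map (π j)) (α.inv.app F x) =
          α.inv.app (Q j) ((EtModW.stalk Λ (ζ' ≫ g)).map (π j) x) := fun j x => by
        refine (ConcreteCategory.comp_apply (α.inv.app F) _ x).symm.trans ?_
        refine (ConcreteCategory.congr_hom (α.inv.naturality (π j)).symm x).trans ?_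
        exact ConcreteCategory.comp_apply _ (α.inv.app (Q j)) x
      have h1 := hO i hi k ζ' hyO (α.inv.app F x) ((hnat i x).trans ((congrArg _ hx').trans (map_zero _)))
      exact ((ConcreteCategory.isIso_iff_bijective (α.inv.app (Q N₀))).1 inferInstance).1
        ((hnat N₀ x).symm.trans (h1.trans (map_zero _).symm))
    · exact mono (C := Y ∩ V'ᶜ) (le_max_right N₀ N₁) hN₁ i hi k ζ ⟨hζ, hζV⟩
  exact ⟨N, fun i hi k _ _ ζ => hN i hi k ζ (Set.mem_univ _)⟩

/-- constructible sheaves of modules are Noetherian objects -/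
theorem isNoetherianObject_of_isConstructible [CompactSpace X] {F : EtModW.Mod Λ X}
    (hF : EtModW.IsConstructible Λ F) : IsNoetherianObject F := by
  rw [isNoetherianObject_iff_monotone_chain_condition]
  intro c
  obtain ⟨N, hN⟩ := exists_stationary hF (fun i => cokernel (c i).arrow) (fun i => cokernel.π (c i).arrow)
    fun i j h => ⟨cokernel.desc _ (cokernel.π (c j).arrow) (by
      rw [← Subobject.ofLE_arrow (c.monotone h), Category.assoc, cokernel.condition, comp_zero]), cokernel.π_desc _ _ _⟩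
  refine ⟨N, fun i hi => le_antisymm (c.monotone hi) ?_⟩
  have e : (c i).arrow ≫ cokernel.π (c N).arrow = 0 := EtFound.eq_of_stalks _ _ fun k _ _ ζ => by
    refine ModuleCat.hom_ext (LinearMap.ext fun x => ?_)
    have h1 : (EtModW.stalk Λ ζ).map (cokernel.π (c i).arrow) ((EtModW.stalk Λ ζ).map (c i).arrow x) = 0 := by
      rw [← ConcreteCategory.comp_apply, ← Functor.map_comp, cokernel.condition, Functor.map_zero]
      rfl
    show (EtModW.stalk Λ ζ).map ((c i).arrow ≫ cokernel.π (c N).arrow) x = (EtModW.stalk Λ ζ).map 0 x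
    rw [Functor.map_comp, ConcreteCategory.comp_apply, hN i hi k ζ _ h1, Functor.map_zero]
    rfl
  exact Subobject.le_of_comm (Abelian.monoLift _ _ e) (Abelian.monoLift_comp _ _ e)

end Groth.Agent.EtModWLib
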