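import Groth.Agent.ARLib.Adic
import Mathlib.Algebra.Category.ModuleCat.Limits
import Mathlib.CategoryTheory.Limits.Types.Limits
import Mathlib.CategoryTheory.Limits.ConcreteCategory.Basic
import Mathlib.Algebra.Category.ModuleCat.EpiMono

/-! limits of towers of modules, on elements -/

universe v u

open CategoryTheory CategoryTheory.Limits Opposite

namespace Groth.Agent.EtModWLib

variable {Λ : Type u} [CommRing Λ] (F : ARSys.PS (ModuleCat.{v} Λ))

theorem tr_tr_apply {a b c : ℕ} (h1 : a ≤ b) (h2 : b ≤ c) (x : F.obj (op c)) :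
    ARSys.tr F h1 (ARSys.tr F h2 x) = ARSys.tr F (h1.trans h2) x := by
  rw [← ConcreteCategory.comp_apply, ← Functor.map_comp]
  rfl

theorem π_tr_apply {n m : ℕ} (h : n ≤ m) (x : (limit F : ModuleCat.{v} Λ)) :
    ARSys.tr F h (limit.π F (op m) x) = limit.π F (op n) x :=
  ConcreteCategory.congr_hom (limit.w F (homOfLE h).op) x

/-- a compatible family gives an element of the limit -/
theorem exists_limit_elem (x : ∀ n : ℕ, F.obj (op n)) (hx : ∀ n m (h : n ≤ m), ARSys.tr F h (x m) = x n) :
    ∃ z : (limit F : ModuleCat.{v} Λ), ∀ n, limit.π F (op n) z = x n := by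
  let hl := isLimitOfPreserves (forget (ModuleCat.{v} Λ)) (limit.isLimit F)
  refine ⟨(Types.isLimitEquivSections hl).symm ⟨fun j => x j.unop, fun {i j} f => hx j.unop i.unop (leOfHom f.unop)⟩,
    fun n => ?_⟩
  exact Types.isLimitEquivSections_symm_apply hl _ (op n)

theorem limit_ext {x y : (limit F : ModuleCat.{v} Λ)} (h : ∀ n, limit.π F (op n) x = limit.π F (op n) y) : x = y :=
  Concrete.isLimit_ext F (limit.isLimit F) x y fun j => h j.unop

/-- projections from the limit of a tower of surjections are surjective -/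
theorem surjective_π (hF : ARSys.IsStrict F) (n : ℕ) : Function.Surjective (limit.π F (op n)) := fun y => by
  have hs : ∀ k, Function.Surjective (ARSys.tr F (Nat.le_succ (n + k))) := fun k =>
    (ModuleCat.epi_iff_surjective _).1 (hF _ _ _)
  choose g hg using hs
  let w : ∀ k, F.obj (op (n + k)) := Nat.rec y g
  have hw : ∀ i j (h : i ≤ j), ARSys.tr F (Nat.add_le_add_left h n) (w j) = w i := fun i j h => by
    induction j, h using Nat.le_induction with
    | base => exact ConcreteCategory.congr_hom (F.map_id _) (w i)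
    | succ j h ih =>
      rw [← tr_tr_apply F (Nat.add_le_add_left h n) (Nat.le_succ (n + j))]
      exact (congrArg _ (hg j (w j))).trans ih
  obtain ⟨z, hz⟩ := exists_limit_elem F (fun k => ARSys.tr F (Nat.le_add_left k n) (w k)) fun i j h => by
    show ARSys.tr F h (ARSys.tr F (Nat.le_add_left j n) (w j)) = ARSys.tr F (Nat.le_add_left i n) (w i)
    rw [tr_tr_apply, ← hw i j h, tr_tr_apply]
  exact ⟨z, (hz n).trans (hw 0 n (Nat.zero_le n))⟩

end Groth.Agent.EtModWLib
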